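import Mathlib.RingTheory.Polynomial.Cyclotomic.Roots
import Mathlib.RingTheory.RootsOfUnity.Complex
import Mathlib.FieldTheory.Minpoly.IsIntegrallyClosed
import Mathlib.FieldTheory.KummerExtension

/-!
# Roots of cyclotomic polynomials in arbitrary commutative rings
-/

open Polynomial Finset

namespace GrothLib.EtTate19

variable {R : Type*} [CommRing R] {n : ℕ} {r : R}

theorem X_pow_sub_one_eq_prod (hn : 0 < n) (hr : (cyclotomic n R).IsRoot r) :
    (X : R[X]) ^ n - 1 = ∏ i ∈ range n, (X - C (r ^ i)) := by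
  classical
  obtain ⟨ζ, hζ⟩ : ∃ ζ : ℂ, IsPrimitiveRoot ζ n := ⟨_, Complex.isPrimitiveRoot_exp n hn.ne'⟩
  let D : ℤ[X][X] := ∏ i ∈ range n, (X - C ((X : ℤ[X]) ^ i)) - (X ^ n - 1)
  have hD : D.map (aeval ζ).toRingHom = 0 := by
    have h := X_pow_sub_C_eq_prod hζ hn (α := (1 : ℂ)) (a := 1) (one_pow n)
    simp only [D, Polynomial.map_sub, Polynomial.map_prod, Polynomial.map_X, Polynomial.map_C,
      Polynomial.map_pow, Polynomial.map_one, map_pow, AlgHom.toRingHom_eq_coe,
      RingHom.coe_coe, aeval_X]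
    rw [sub_eq_zero]
    simp only [map_one, mul_one] at h
    rw [h]
    simp
  have hr' : (cyclotomic n ℤ).eval₂ (Int.castRingHom R) r = 0 := by
    rw [eval₂_eq_eval_map, map_cyclotomic]
    exact hr
  have h0 : D.map (aeval r).toRingHom = 0 := by
    ext i
    have hi := congrArg (fun p => p.coeff i) hD
    simp only [coeff_map, coeff_zero, AlgHom.toRingHom_eq_coe, RingHom.coe_coe] at hi
    have hdvd : cyclotomic n ℤ ∣ D.coeff i := by
      rw [cyclotomic_eq_minpoly hζ hn]
      exact minpoly.isIntegrallyClosed_dvd (hζ.isIntegral hn) hi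
    obtain ⟨q, hq⟩ := hdvd
    simp only [coeff_map, coeff_zero, AlgHom.toRingHom_eq_coe, RingHom.coe_coe, hq, map_mul]
    rw [aeval_def, show algebraMap ℤ R = Int.castRingHom R from Subsingleton.elim _ _, hr', zero_mul]
  simp only [D, Polynomial.map_sub, Polynomial.map_prod, Polynomial.map_X, Polynomial.map_C,
    Polynomial.map_pow, Polynomial.map_one, map_pow, AlgHom.toRingHom_eq_coe,
    RingHom.coe_coe, aeval_X, sub_eq_zero] at h0
  simpa using h0.symm

theorem pow_eq_one_of_isRoot (hn : 0 < n) (hr : (cyclotomic n R).IsRoot r) : r ^ n = 1 := by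
  have h := congrArg (eval r) (X_pow_sub_one_eq_prod hn hr)
  rw [eval_sub, eval_pow, eval_X, eval_one, eval_prod] at h
  rw [← sub_eq_zero, h]
  by_cases h1 : n = 1
  · subst h1
    have h' := hr
    rw [cyclotomic_one, IsRoot, eval_sub, eval_X, eval_one, sub_eq_zero] at h'
    subst h'
    simp
  · exact prod_eq_zero (mem_range.2 (show 1 < n by omega)) (by simp)

theorem isUnit_pow_sub_pow (hr : (cyclotomic n R).IsRoot r) (hu : IsUnit (n : R)) {i k : ℕ}
    (hi : i < n) (hk : k < n) (hne : i ≠ k) : IsUnit (r ^ k - r ^ i) := by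
  classical
  have hn : 0 < n := by omega
  have h := congrArg (fun p => (derivative p).eval (r ^ k)) (X_pow_sub_one_eq_prod hn hr)
  rw [← mul_prod_erase _ _ (mem_range.2 hk)] at h
  simp only [derivative_sub, derivative_X_pow, derivative_one, sub_zero, derivative_mul,
    derivative_X, derivative_C, one_mul, eval_add, eval_mul, eval_pow, eval_X, eval_C, eval_sub,
    sub_self, zero_mul, add_zero, eval_prod] at h
  have hru : IsUnit r :=
    (isUnit_pow_iff hn.ne').1 ((pow_eq_one_of_isRoot hn hr).symm ▸ isUnit_one)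
  exact (IsUnit.prod_iff.1 (h ▸ hu.mul ((hru.pow k).pow (n - 1)))) i
    (mem_erase.2 ⟨hne, mem_range.2 hi⟩)

/-- Bezout identity showing that `Φ_n` is separable when `n` is invertible. -/
theorem exists_bezout_cyclotomic (hn : 0 < n) (hu : IsUnit (n : R)) :
    ∃ p₁ p₂ : R[X], derivative (cyclotomic n R) * p₁ + cyclotomic n R * p₂ = 1 := by
  obtain ⟨c, hc⟩ := hu.exists_left_inv
  have hdvd : cyclotomic n R ∣ X ^ n - 1 := cyclotomic.dvd_X_pow_sub_one n R
  obtain ⟨g, hg⟩ := hdvd
  have hd := congrArg derivative hg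
  rw [derivative_sub, derivative_X_pow, derivative_one, sub_zero, derivative_mul] at hd
  refine ⟨C c * X * g, C c * X * derivative g - g, ?_⟩
  obtain ⟨m, rfl⟩ := Nat.exists_eq_succ_of_ne_zero hn.ne'
  simp only [Nat.succ_sub_one, pow_succ] at hd hg
  have hcC : C c * C ((m + 1 : ℕ) : R) = 1 := by rw [← map_mul, hc, map_one]
  linear_combination (-(C c * X)) * hd + hg + (X ^ m * X) * hcC

end GrothLib.EtTate19
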