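import Groth.Agent.Lib.EtTate19.Cyclic
import Groth.Agent.Lib.EtTate19.RootAlg
import Groth.Agent.Lib.EtBasicB.RootCover

/-!
# `μ_n` is locally generated by a root of the cyclotomic polynomial
-/

set_option backward.isDefEq.respectTransparency false
set_option backward.isDefEq.respectTransparency.types false

universe u

open CategoryTheory CategoryTheory.Limits AlgebraicGeometry Opposite

namespace GrothLib.EtTate19

open GrothLib.EtSite

variable {S : Scheme.{u}} {n : ℕ}

/-- Sections over a fixed object. -/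
noncomputable abbrev secAt (V : S.Etale) : EtCoh.Ab S ⥤ AddCommGrpCat.{u + 1} :=
  sheafToPresheaf S.smallEtaleTopology AddCommGrpCat.{u + 1} ⋙
    (evaluation S.Etaleᵒᵖ AddCommGrpCat.{u + 1}).obj (op V)

/-- The unit underlying a section of `μ_n`. -/
noncomputable def muVal {V : S.Etale} (s : EtCoh.sect (EtCoh.mu S n) V) : Γ(V.left, ⊤)ˣ :=
  Additive.toMul (ULift.down ((EtCoh.muι S n).hom.app (op V) s))

lemma muVal_injective (V : S.Etale) : Function.Injective (muVal (S := S) (n := n) (V := V)) := by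
  have : Mono (EtCoh.muι S n) := by
    unfold EtCoh.muι EtCoh.mu
    infer_instance
  have h1 : Function.Injective ((secAt V).map (EtCoh.muι S n)) :=
    (AddCommGrpCat.mono_iff_injective _).1 inferInstance
  exact Additive.toMul.injective.comp (ULift.down_injective.comp h1)

lemma muVal_add {V : S.Etale} (a b : EtCoh.sect (EtCoh.mu S n) V) :
    muVal (a + b) = muVal a * muVal b := by
  rw [muVal, map_add]
  rfl

/-- Sections of `μ_n` as a map to units. -/
noncomputable def muHom (V : S.Etale) :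
    EtCoh.sect (EtCoh.mu S n) V →+ Additive Γ(V.left, ⊤)ˣ :=
  AddMonoidHom.mk' (fun s => Additive.ofMul (muVal s)) (fun a b => congrArg Additive.ofMul (muVal_add a b))

lemma muVal_zero (V : S.Etale) : muVal (0 : EtCoh.sect (EtCoh.mu S n) V) = 1 :=
  congrArg Additive.toMul (map_zero (muHom (S := S) (n := n) V))

lemma muVal_zsmul {V : S.Etale} (k : ℤ) (a : EtCoh.sect (EtCoh.mu S n) V) :
    muVal (k • a) = muVal a ^ k :=
  congrArg Additive.toMul (map_zsmul (muHom V) k a)

lemma muVal_nsmul {V : S.Etale} (k : ℕ) (a : EtCoh.sect (EtCoh.mu S n) V) :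
    muVal (k • a) = muVal a ^ k :=
  congrArg Additive.toMul (map_nsmul (muHom V) k a)

lemma muVal_map {V W : S.Etale} (h : W ⟶ V) (s : EtCoh.sect (EtCoh.mu S n) V) :
    ((muVal ((EtCoh.mu S n).obj.map h.op s) : Γ(W.left, ⊤)ˣ) : Γ(W.left, ⊤)) =
      h.left.appTop (muVal s : Γ(V.left, ⊤)ˣ) := by
  rw [muVal, NatTrans.naturality_apply]
  rfl

lemma powMap_app (V : S.Etale) (t : EtCoh.sect (EtCoh.Gm S) V) :
    (EtCoh.powMap S n).hom.app (op V) t = n • t := by
  let ev : (EtCoh.Gm S ⟶ EtCoh.Gm S) →+ (EtCoh.Gm S).obj.obj (op V) :=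
    AddMonoidHom.mk' (fun φ => φ.hom.app (op V) t) (fun _ _ => rfl)
  exact map_nsmul ev n (𝟙 _)

lemma muVal_pow {V : S.Etale} (s : EtCoh.sect (EtCoh.mu S n) V) : muVal s ^ n = 1 := by
  have h := congrArg (fun φ => (secAt V).map φ s) (kernel.condition (EtCoh.powMap S n))
  simp only [Functor.map_comp, ConcreteCategory.comp_apply] at h
  have h2 : n • (EtCoh.muι S n).hom.app (op V) s = 0 :=
    ((powMap_app V _).symm.trans h)
  exact congrArg (fun z => Additive.toMul (ULift.down z)) h2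

lemma exists_muVal {V : S.Etale} (v : Γ(V.left, ⊤)ˣ) (hv : v ^ n = 1) :
    ∃ s : EtCoh.sect (EtCoh.mu S n) V, muVal s = v := by
  let t : EtCoh.sect (EtCoh.Gm S) V := ULift.up (Additive.ofMul v)
  have ht : (secAt V).map (EtCoh.powMap S n) t = 0 := by
    refine (powMap_app V t).trans ?_
    refine ULift.ext _ _ (Additive.toMul.injective ?_)
    exact hv
  let sc : ShortComplex (EtCoh.Ab S) :=
    ShortComplex.mk (EtCoh.muι S n) (EtCoh.powMap S n) (kernel.condition _)
  have hk : IsLimit (KernelFork.ofι sc.f sc.zero) := kernelIsKernel _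
  have : PreservesLimit (parallelPair sc.g 0) (secAt V) := inferInstance
  have hex : (sc.map (secAt V)).Exact :=
    ShortComplex.exact_of_f_is_kernel _ (KernelFork.mapIsLimit _ hk (secAt V))
  obtain ⟨s, hs⟩ := (ShortComplex.ab_exact_iff _).1 hex t ht
  refine ⟨s, ?_⟩
  rw [muVal]
  exact congrArg (fun z => Additive.toMul (ULift.down z)) hs

theorem isCycGen_mu (hn : 0 < n) (hu : IsUnit (n : Γ(S, ⊤))) (r : Γ(S, ⊤))
    (hr : (Polynomial.cyclotomic n Γ(S, ⊤)).IsRoot r) :
    ∃ ζ : EtCoh.sect (EtCoh.mu S n) (EtCoh.top S), IsCycGen n (EtCoh.mu S n) ζ := by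
  obtain ⟨ru, rfl⟩ : IsUnit r :=
    (isUnit_pow_iff hn.ne').1 ((pow_eq_one_of_isRoot hn hr).symm ▸ isUnit_one)
  obtain ⟨ζ, hζ⟩ := exists_muVal (n := n) (V := EtCoh.top S) ru
    (Units.ext (by simpa using pow_eq_one_of_isRoot hn hr))
  refine ⟨ζ, ⟨muVal_injective _ ?_, ?_, ?_⟩⟩
  · rw [muVal_nsmul, muVal_zero, muVal_pow]
  · intro V s x
    let ρ : Γ(S, ⊤) →+* Γ(V.left, ⊤) := (((EtCore.topIsTerminal S).from V).left.appTop).hom
    have hV : ((muVal (res (EtCoh.mu S n) ζ V) : Γ(V.left, ⊤)ˣ) : Γ(V.left, ⊤)) = ρ ru := by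
      rw [res, muVal_map, hζ]
      rfl
    set a : Γ(V.left, ⊤) := ((muVal s : Γ(V.left, ⊤)ˣ) : Γ(V.left, ⊤)) with ha
    set q : Γ(V.left, ⊤) := ρ ru with hq
    have hrV : (Polynomial.cyclotomic n Γ(V.left, ⊤)).IsRoot q := by
      rw [← Polynomial.map_cyclotomic n ρ]
      exact hr.map
    have huV : IsUnit (n : Γ(V.left, ⊤)) := by simpa using hu.map ρ
    have hprod : ∏ i ∈ Finset.range n, (a - q ^ i) = 0 := by
      have h := congrArg (Polynomial.eval a) (X_pow_sub_one_eq_prod hn hrV)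
      simp only [Polynomial.eval_sub, Polynomial.eval_pow, Polynomial.eval_X, Polynomial.eval_one,
        Polynomial.eval_prod, Polynomial.eval_C] at h
      rw [← h, ha, ← Units.val_pow_eq_pow_val, muVal_pow, Units.val_one, sub_self]
    let γ : Γ(V.left, ⊤) →+* V.left.residueField x := (V.left.Γevaluation x).hom
    obtain ⟨k, hk, hk0⟩ := Finset.prod_eq_zero_iff.1 ((map_prod γ _ _).symm.trans
      ((congrArg γ hprod).trans (map_zero γ)))
    let P : Γ(V.left, ⊤) := ∏ i ∈ (Finset.range n).erase k, (a - q ^ i)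
    have hP : γ P ≠ 0 := by
      rw [map_prod, Finset.prod_ne_zero_iff]
      intro i hi
      rw [Finset.mem_erase] at hi
      have := ((isUnit_pow_sub_pow hrV huV (Finset.mem_range.1 hi.2) (Finset.mem_range.1 hk)
        hi.1).map γ).ne_zero
      rw [show a - q ^ i = (a - q ^ k) + (q ^ k - q ^ i) by ring, map_add, hk0, zero_add]
      exact this
    let O : V.left.Opens := V.left.basicOpen P
    have hxO : x ∈ O := by
      by_contra hx
      exact hP ((V.left.evaluation_eq_zero_iff_notMem_basicOpen (U := ⊤) x trivial P).2 hx)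
    have : Etale (V.hom : V.left ⟶ S) := V.prop
    let W : S.Etale := Scheme.Etale.mk (O.ι ≫ (V.hom : V.left ⟶ S))
    let g : W ⟶ V := MorphismProperty.Over.homMk O.ι rfl trivial
    refine ⟨W, g, ⟨x, hxO⟩, rfl, (k : ℤ), muVal_injective _ (Units.ext ?_)⟩
    rw [muVal_map, muVal_zsmul, zpow_natCast, Units.val_pow_eq_pow_val]
    have e : ((muVal (res (EtCoh.mu S n) ζ W) : Γ(W.left, ⊤)ˣ) : Γ(W.left, ⊤)) = g.left.appTop q := by
      rw [← res_map _ ζ g, muVal_map, hV]
    rw [e, ← map_pow, ← sub_eq_zero, ← ha, ← map_sub]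
    have hunit : IsUnit (g.left.appTop P) := by
      have h1 : W.left.basicOpen (g.left.appTop P) = ⊤ := by
        rw [← Scheme.preimage_basicOpen_top]
        exact O.ι_preimage_self
      exact W.left.toRingedSpace.isUnit_of_isUnit_germ ⊤ _ fun y hy =>
        (W.left.mem_basicOpen' (g.left.appTop P) ⟨y, hy⟩).1 (h1.symm ▸ hy)
    refine (hunit.mul_left_eq_zero).1 ?_
    rw [← map_mul, Finset.mul_prod_erase _ (fun i => a - q ^ i) hk, hprod, map_zero]
  · intro V hV k hk
    obtain ⟨x⟩ := hV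
    have h1 := congrArg muVal hk
    rw [muVal_zsmul, muVal_zero] at h1
    let ρ : Γ(S, ⊤) →+* Γ(V.left, ⊤) := (((EtCore.topIsTerminal S).from V).left.appTop).hom
    have hv : ((muVal (res (EtCoh.mu S n) ζ V) : Γ(V.left, ⊤)ˣ) : Γ(V.left, ⊤)) = ρ ru := by
      rw [res, muVal_map, hζ]
      rfl
    have hrV : (Polynomial.cyclotomic n Γ(V.left, ⊤)).IsRoot (ρ ru) := by
      rw [← Polynomial.map_cyclotomic n ρ]
      exact hr.map
    have huV : IsUnit (n : Γ(V.left, ⊤)) := by simpa using hu.map ρ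
    have : Nontrivial Γ(V.left, ⊤) := RingHom.domain_nontrivial (V.left.Γevaluation x).hom
    set v := muVal (res (EtCoh.mu S n) ζ V) with hvdef
    obtain ⟨m, hm⟩ := Int.eq_ofNat_of_zero_le (Int.emod_nonneg k (Int.natCast_ne_zero.2 hn.ne'))
    have hmn : m < n := by
      have := Int.emod_lt_of_pos k (Int.natCast_pos.2 hn)
      omega
    have h2 : v ^ m = 1 := by
      have : v ^ k = v ^ ((m : ℤ)) := by
        conv_lhs => rw [← Int.emod_add_mul_ediv k n]
        rw [zpow_add, zpow_mul, zpow_natCast, muVal_pow, one_zpow, mul_one, hm]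
      rw [← zpow_natCast, ← this, h1]
    refine Int.dvd_of_emod_eq_zero ?_
    rw [hm]
    by_contra hm0
    have h3 := isUnit_pow_sub_pow hrV huV hn hmn (fun h => hm0 (by simp [← h]))
    rw [pow_zero, ← hv, ← Units.val_pow_eq_pow_val, h2, Units.val_one, sub_self] at h3
    exact not_isUnit_zero h3

theorem exists_etale_cyclotomic_root (hn : 0 < n) (hu : IsUnit (n : Γ(S, ⊤))) (x : S) :
    ∃ (W : S.Etale) (w : W.left) (r : Γ(W.left, ⊤)),
      (W.hom : W.left ⟶ S).base w = x ∧ (Polynomial.cyclotomic n Γ(W.left, ⊤)).IsRoot r := by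
  have : Nontrivial Γ(S, ⊤) := RingHom.domain_nontrivial (S.Γevaluation x).hom
  obtain ⟨p₁, p₂, hp⟩ := exists_bezout_cyclotomic (R := Γ(S, ⊤)) hn hu
  obtain ⟨W, g, w, r, hw, hr⟩ := GrothLib.EtBasicB.exists_etale_root (EtCoh.top S) x
    (Polynomial.cyclotomic n Γ(S, ⊤)) p₁ p₂ (Polynomial.cyclotomic.monic _ _)
    (lt_of_lt_of_eq (Nat.totient_pos.2 hn)
      (@Polynomial.natDegree_cyclotomic n Γ(S, ⊤) _ ‹_›).symm) hp
  refine ⟨W, w, r, ?_, ?_⟩
  · have h1 : g.left ≫ (EtCoh.top S).hom = W.hom := MorphismProperty.Over.w g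
    rw [← hw, ← h1]
    rfl
  · rw [← Polynomial.map_cyclotomic n g.left.appTop.hom, Polynomial.IsRoot, Polynomial.eval_map]
    exact hr

end GrothLib.EtTate19
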