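import Groth.Agent.Lib.EtSite.Points
import Groth.Prelude.Def_EtDual
import Groth.Prelude.Def_EtCore
import Mathlib.CategoryTheory.Sites.LocallyBijective

/-!
# Sheaves locally generated by one section of exact order `n`
-/

set_option backward.isDefEq.respectTransparency false
set_option backward.isDefEq.respectTransparency.types false

universe u

open CategoryTheory CategoryTheory.Limits AlgebraicGeometry Opposite TensorProduct

namespace GrothLib.EtTate19

open GrothLib.EtSite

variable {X : Scheme.{u}}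

/-- Restriction of a global section. -/
noncomputable abbrev res (G : EtCoh.Ab X) (g : EtCoh.sect G (EtCoh.top X)) (V : X.Etale) :
    EtCoh.sect G V :=
  G.obj.map ((EtCore.topIsTerminal X).from V).op g

lemma res_map (G : EtCoh.Ab X) (g : EtCoh.sect G (EtCoh.top X)) {V W : X.Etale} (h : W ⟶ V) :
    G.obj.map h.op (res G g V) = res G g W := by
  rw [res, ← Functor.map_comp_apply, ← op_comp]
  exact congrArg (fun k => G.obj.map k.op g) ((EtCore.topIsTerminal X).hom_ext _ _)

/-- `G` is locally generated by `g`, of exact order `n` over nonempty objects. -/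
structure IsCycGen (n : ℕ) (G : EtCoh.Ab X) (g : EtCoh.sect G (EtCoh.top X)) : Prop where
  smul : n • g = 0
  surj : ∀ (V : X.Etale) (s : EtCoh.sect G V) (x : V.left), ∃ (W : X.Etale) (h : W ⟶ V) (w : W.left),
    h.left.base w = x ∧ ∃ k : ℤ, G.obj.map h.op s = k • res G g W
  inj : ∀ (V : X.Etale) (_ : Nonempty V.left) (k : ℤ), k • res G g V = 0 → (n : ℤ) ∣ k

variable {n : ℕ} {G : EtCoh.Ab X} {g : EtCoh.sect G (EtCoh.top X)}

lemma IsCycGen.smul_res (hg : IsCycGen n G g) (V : X.Etale) : n • res G g V = 0 := by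
  rw [res, ← map_nsmul, hg.smul, map_zero]

/-- Multiples of the generator. -/
noncomputable def mults (hg : IsCycGen n G g) (V : X.Etale) : ZMod n →+ EtCoh.sect G V :=
  ZMod.lift n ⟨zmultiplesHom _ (res G g V), by simpa using hg.smul_res V⟩

lemma mults_intCast (hg : IsCycGen n G g) (V : X.Etale) (k : ℤ) :
    mults hg V (k : ZMod n) = k • res G g V := by
  simp [mults]

lemma mults_map (hg : IsCycGen n G g) {V W : X.Etale} (h : W ⟶ V) (k : ZMod n) :
    G.obj.map h.op (mults hg V k) = mults hg W k := by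
  obtain ⟨k, rfl⟩ := ZMod.intCast_surjective k
  rw [mults_intCast, mults_intCast, map_zsmul, res_map]

/-- The presheaf map from the constant presheaf. -/
noncomputable def constPshTo (hg : IsCycGen n G g) :
    (Functor.const X.Etaleᵒᵖ).obj (AddCommGrpCat.of (ULift.{u + 1} (ZMod n))) ⟶ G.obj where
  app V := AddCommGrpCat.ofHom ((mults hg V.unop).comp AddEquiv.ulift.toAddMonoidHom)
  naturality V W h := by
    ext k
    exact (mults_map hg h.unop k.down).symm

theorem nonempty_const_iso (hg : IsCycGen n G g) : Nonempty (EtCoh.const X (ZMod n) ≅ G) := by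
  let ψ := constPshTo hg
  have hs : Presheaf.IsLocallySurjective X.smallEtaleTopology ψ := ⟨fun {V} s => by
    rw [mem_topology_iff]
    intro x
    obtain ⟨W, h, w, hw, k, hk⟩ := hg.surj V s x
    refine ⟨W, h, w, ⟨ULift.up (k : ZMod n), ?_⟩, hw⟩
    exact (mults_intCast hg W k).trans hk.symm⟩
  have hi : Presheaf.IsLocallyInjective X.smallEtaleTopology ψ := ⟨fun {V} a b h => by
    rw [mem_topology_iff]
    intro x
    refine ⟨V.unop, 𝟙 _, x, ?_, rfl⟩
    have : Nonempty V.unop.left := ⟨x⟩
    obtain ⟨⟨a⟩, rfl⟩ : ∃ a' : ULift (ZMod n), a' = a := ⟨a, rfl⟩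
    obtain ⟨⟨b⟩, rfl⟩ : ∃ b' : ULift (ZMod n), b' = b := ⟨b, rfl⟩
    obtain ⟨i, rfl⟩ := ZMod.intCast_surjective a
    obtain ⟨l, rfl⟩ := ZMod.intCast_surjective b
    have h' : mults hg V.unop (i : ZMod n) = mults hg V.unop (l : ZMod n) := h
    rw [mults_intCast, mults_intCast, ← sub_eq_zero, ← sub_smul] at h'
    have e : (i : ZMod n) = (l : ZMod n) :=
      ((ZMod.intCast_eq_intCast_iff_dvd_sub _ _ _).2 (hg.inj _ this _ h')).symm
    change ULift.up (i : ZMod n) = ULift.up (l : ZMod n)
    rw [e]⟩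
  have : IsIso ((presheafToSheaf X.smallEtaleTopology AddCommGrpCat.{u + 1}).map ψ) :=
    (GrothendieckTopology.W_iff _ _).1 (GrothendieckTopology.W_of_isLocallyBijective _ ψ)
  exact ⟨asIso ((presheafToSheaf X.smallEtaleTopology AddCommGrpCat.{u + 1}).map ψ) ≪≫
    asIso ((sheafificationAdjunction X.smallEtaleTopology AddCommGrpCat.{u + 1}).counit.app G)⟩

/-- Tensoring with the generator. -/
noncomputable def tensorGenPsh (F G : EtCoh.Ab X) (g : EtCoh.sect G (EtCoh.top X)) :
    F.obj ⟶ EtDual.tensorPre F G where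
  app V := AddCommGrpCat.ofHom (AddMonoidHom.mk' (fun s => s ⊗ₜ[ℤ] res G g V.unop)
    (fun a b => TensorProduct.add_tmul a b _))
  naturality V W h := by
    ext s
    change (F.obj.map h s) ⊗ₜ[ℤ] res G g W.unop =
      (F.obj.map h s) ⊗ₜ[ℤ] (G.obj.map h (res G g V.unop))
    congr 1
    exact (res_map G g h.unop).symm

lemma subsingleton_fiber_top {Ω : Type u} [Field Ω] [IsSepClosed Ω]
    (ξ : Spec (CommRingCat.of Ω) ⟶ X) :
    Subsingleton ((Scheme.pointSmallEtale ξ).fiber.obj (EtCoh.top X)) :=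
  ⟨fun a b => Over.OverMorphism.ext <| by
    have ha := Over.w a
    have hb := Over.w b
    exact (Category.comp_id _).symm.trans (ha.trans (hb.symm.trans (Category.comp_id _)))⟩

lemma stalk_gen (hg : IsCycGen n G g) {Ω : Type u} [Field Ω] [IsSepClosed Ω]
    (ξ : Spec (CommRingCat.of Ω) ⟶ X) {V : X.Etale} (t : (Scheme.pointSmallEtale ξ).fiber.obj V) :
    Function.Bijective (ZMod.lift n ⟨zmultiplesHom _ (germ ξ G t (res G g V)),
      by simp [← map_nsmul, hg.smul_res V]⟩) := by
  constructor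
  · rw [injective_iff_map_eq_zero]
    intro k hk
    obtain ⟨k, rfl⟩ := ZMod.intCast_surjective k
    rw [ZMod.lift_coe, zmultiplesHom_apply] at hk
    rw [← map_zsmul] at hk
    obtain ⟨W, h, w, -, hz⟩ := eq_zero_nhd ξ G t _ hk
    rw [map_zsmul, res_map] at hz
    exact (ZMod.intCast_zmod_eq_zero_iff_dvd k n).2 (hg.inj W ⟨w⟩ k hz)
  · intro p
    obtain ⟨U, t₁, s, rfl⟩ := exists_germ ξ G p
    let R : Sieve U :=
      { arrows := fun W h => ∃ k : ℤ, G.obj.map h.op s = k • res G g W
        downward_closed := by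
          rintro W W' h ⟨k, hk⟩ h'
          refine ⟨k, ?_⟩
          rw [op_comp, Functor.map_comp, ConcreteCategory.comp_apply, hk, map_zsmul, res_map] }
    have hR : R ∈ X.smallEtaleTopology U := by
      rw [mem_topology_iff]
      intro x
      obtain ⟨W, h, w, hw, hk⟩ := hg.surj U s x
      exact ⟨W, h, w, hk, hw⟩
    obtain ⟨W, h, ⟨k, hk⟩, t₂, rfl⟩ := (Scheme.pointSmallEtale ξ).jointly_surjective R hR t₁
    refine ⟨(k : ZMod n), ?_⟩
    rw [ZMod.lift_coe, zmultiplesHom_apply, ← germ_map, hk, map_zsmul]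
    congr 1
    rw [res, res, germ_map, germ_map]
    exact congrArg (fun q => germ ξ G q g)
      (Subsingleton.elim (h := subsingleton_fiber_top ξ) _ _)

theorem nonempty_tensor_iso (hg : IsCycGen n G g) (F : EtCoh.Ab X)
    (hF : ∀ (V : X.Etale) (s : EtCoh.sect F V), n • s = 0) : Nonempty (F ≅ EtDual.tensorAb F G) := by
  let ψ := tensorGenPsh F G g
  have hs : Presheaf.IsLocallySurjective X.smallEtaleTopology ψ := ⟨fun {V} z => by
    change F.obj.obj (op V) ⊗[ℤ] G.obj.obj (op V) at z
    induction z using TensorProduct.induction_on with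
    | zero =>
      refine X.smallEtaleTopology.superset_covering ?_ (X.smallEtaleTopology.top_mem V)
      intro W h _
      exact ⟨0, (map_zero _).trans (map_zero _).symm⟩
    | tmul a b =>
      rw [mem_topology_iff]
      intro x
      obtain ⟨W, h, w, hw, k, hk⟩ := hg.surj V b x
      refine ⟨W, h, w, ⟨k • F.obj.map h.op a, ?_⟩, hw⟩
      change (k • F.obj.map h.op a) ⊗ₜ[ℤ] res G g W = (F.obj.map h.op a) ⊗ₜ[ℤ] (G.obj.map h.op b)
      rw [hk, TensorProduct.smul_tmul]
    | add z z' hz hz' =>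
      refine X.smallEtaleTopology.superset_covering ?_ (X.smallEtaleTopology.intersection_covering hz hz')
      rintro W h ⟨⟨a, ha⟩, ⟨b, hb⟩⟩
      exact ⟨a + b, (map_add _ a b).trans ((congrArg₂ (· + ·) ha hb).trans (map_add _ z z').symm)⟩⟩
  have hi : Presheaf.IsLocallyInjective X.smallEtaleTopology ψ := ⟨fun {V} a b h => by
    have hab : a - b = (0 : F.obj.obj V) := by
      refine section_eq_zero_of_germs F V.unop _ fun Ω _ _ ξ t => ?_
      let e := AddEquiv.ofBijective _ (stalk_gen hg ξ t)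
      have h' : (a - b) ⊗ₜ[ℤ] res G g V.unop = (0 : F.obj.obj V ⊗[ℤ] G.obj.obj V) := by
        rw [TensorProduct.sub_tmul, sub_eq_zero]
        exact h
      have hk : ∀ (p : (EtCoh.stalk ξ).obj F), n • p = 0 := fun p => by
        obtain ⟨U, t', s, rfl⟩ := exists_germ ξ F p
        rw [← map_nsmul, hF, map_zero]
      let act : ZMod n →+ ((EtCoh.stalk ξ).obj F →+ (EtCoh.stalk ξ).obj F) :=
        ZMod.lift n ⟨zmultiplesHom _ (AddMonoidHom.id _), by
          ext p
          simpa using hk p⟩
      let bil : (EtCoh.stalk ξ).obj F →ₗ[ℤ] (EtCoh.stalk ξ).obj G →ₗ[ℤ] (EtCoh.stalk ξ).obj F :=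
        LinearMap.mk₂ ℤ (fun p q => act (e.symm q) p)
          (fun p p' q => map_add _ p p') (fun c p q => map_zsmul _ c p)
          (fun p q q' => by rw [map_add, map_add]; rfl)
          (fun c p q => by rw [map_zsmul, map_zsmul]; rfl)
      have h2 := congrArg (TensorProduct.lift
        ((bil.compl₂ (germ ξ G t).hom.toIntLinearMap).comp (germ ξ F t).hom.toIntLinearMap)) h'
      rw [TensorProduct.lift.tmul, map_zero] at h2
      refine Eq.trans ?_ h2
      change germ ξ F t (a - b) = act (e.symm (germ ξ G t (res G g V.unop))) (germ ξ F t (a - b))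
      have h1 : e.symm (germ ξ G t (res G g V.unop)) = ((1 : ℤ) : ZMod n) := by
        rw [AddEquiv.symm_apply_eq]
        simp only [e, AddEquiv.ofBijective_apply, ZMod.lift_coe, zmultiplesHom_apply, one_smul]
      rw [h1]
      simp only [act, ZMod.lift_coe, zmultiplesHom_apply, one_smul, AddMonoidHom.id_apply]
    rw [sub_eq_zero] at hab
    rw [hab]
    exact X.smallEtaleTopology.superset_covering (fun _ _ _ => rfl) (X.smallEtaleTopology.top_mem _)⟩
  have : IsIso ((presheafToSheaf X.smallEtaleTopology AddCommGrpCat.{u + 1}).map ψ) :=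
    (GrothendieckTopology.W_iff _ _).1 (GrothendieckTopology.W_of_isLocallyBijective _ ψ)
  exact ⟨(asIso ((sheafificationAdjunction X.smallEtaleTopology AddCommGrpCat.{u + 1}).counit.app F)).symm ≪≫
    asIso ((presheafToSheaf X.smallEtaleTopology AddCommGrpCat.{u + 1}).map ψ)⟩

end GrothLib.EtTate19
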