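import Groth.Agent.Lib.EtTate19.Root
import Groth.Agent.Lib.EtDer.Injective
import Groth.Prelude.Def_EtCore

/-!
# Tate twists are etale-locally isomorphic to `ℤ/n`
-/

set_option backward.isDefEq.respectTransparency false
set_option backward.isDefEq.respectTransparency.types false

universe u

open CategoryTheory CategoryTheory.Limits AlgebraicGeometry Opposite TensorProduct

noncomputable section

namespace GrothLib.EtTate19

open GrothLib.EtSite

variable {X W : Scheme.{u}}

/-- Isomorphisms of tensor products. -/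
def tensorPreIso {F F' G G' : EtCoh.Ab X} (e : F ≅ F') (e' : G ≅ G') :
    EtDual.tensorPre F G ≅ EtDual.tensorPre F' G' :=
  NatIso.ofComponents (fun V => (TensorProduct.congr
      (((secAt V.unop).mapIso e).addCommGroupIsoToAddEquiv.toIntLinearEquiv)
      (((secAt V.unop).mapIso e').addCommGroupIsoToAddEquiv.toIntLinearEquiv)).toAddEquiv.toAddCommGrpIso)
    (fun {V V'} f => by
      ext z
      change F.obj.obj V ⊗[ℤ] G.obj.obj V at z
      induction z using TensorProduct.induction_on with
      | zero => exact (map_zero _).trans (map_zero _).symm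
      | tmul a b =>
        change (e.hom.hom.app V' (F.obj.map f a)) ⊗ₜ[ℤ] (e'.hom.hom.app V' (G.obj.map f b)) =
          (F'.obj.map f (e.hom.hom.app V a)) ⊗ₜ[ℤ] (G'.obj.map f (e'.hom.hom.app V b))
        rw [NatTrans.naturality_apply, NatTrans.naturality_apply]
      | add z z' hz hz' => exact (map_add _ z z').trans ((congrArg₂ (· + ·) hz hz').trans (map_add _ z z').symm))

/-- Isomorphisms of tensor products of sheaves. -/
def tensorAbIso {F F' G G' : EtCoh.Ab X} (e : F ≅ F') (e' : G ≅ G') :
    EtDual.tensorAb F G ≅ EtDual.tensorAb F' G' :=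
  (presheafToSheaf X.smallEtaleTopology AddCommGrpCat.{u + 1}).mapIso (tensorPreIso e e')

variable (q : W ⟶ X) [Etale q]

instance isCocontinuous_compEtale :
    (EtShriek.compEtale q).IsCocontinuous W.smallEtaleTopology X.smallEtaleTopology := by
  refine ⟨fun {V} R hR => ?_⟩
  rw [mem_topology_iff] at hR ⊢
  intro x
  obtain ⟨W', g, w, hg, hw⟩ := hR x
  let V' : W.Etale := (EtShriek.compEtaleLift q g).1
  let e : (EtShriek.compEtale q).obj V' ≅ W' := (EtShriek.compEtaleLift q g).2
  let k : V' ⟶ V := MorphismProperty.Over.homMk g.left rfl trivial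
  refine ⟨V', k, w, ?_, hw⟩
  have hk : (EtShriek.compEtale q).map k = e.hom ≫ g :=
    MorphismProperty.Over.Hom.ext (Category.id_comp _).symm
  change R ((EtShriek.compEtale q).map k)
  rw [hk]
  exact R.downward_closed hg _

variable [EtShriek.JCont q]

/-- Restriction commutes with tensor products. -/
def restrTensorIso (F G : EtCoh.Ab X) :
    (EtShriek.restrAlong q).obj (EtDual.tensorAb F G) ≅
      EtDual.tensorAb ((EtShriek.restrAlong q).obj F) ((EtShriek.restrAlong q).obj G) :=
  ((EtShriek.compEtale q).pushforwardContinuousSheafificationCompatibility AddCommGrpCat.{u + 1}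
      W.smallEtaleTopology X.smallEtaleTopology).symm.app (EtDual.tensorPre F G) ≪≫
    (presheafToSheaf W.smallEtaleTopology AddCommGrpCat.{u + 1}).mapIso
      (NatIso.ofComponents (fun _ => Iso.refl _) (fun _ => rfl))

/-- Restriction of `G_m`. -/
def restrGmIso : (EtShriek.restrAlong q).obj (EtCoh.Gm X) ≅ EtCoh.Gm W :=
  (fullyFaithfulSheafToPresheaf _ _).preimageIso
    (NatIso.ofComponents (fun _ => Iso.refl _) (fun _ => rfl))

/-- Restriction of `μ_n`. -/
def restrMuIso (n : ℕ) : (EtShriek.restrAlong q).obj (EtCoh.mu X n) ≅ EtCoh.mu W n :=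
  haveI : PreservesLimitsOfSize.{0, 0} (EtShriek.restrAlong q) :=
    (EtShriek.extZeroAdj q).rightAdjoint_preservesLimits
  haveI : PreservesBinaryBiproducts (EtShriek.restrAlong q) :=
    preservesBinaryBiproducts_of_preservesBinaryProducts _
  haveI : (EtShriek.restrAlong q).Additive := Functor.additive_of_preservesBinaryBiproducts _
  haveI : PreservesLimitsOfSize.{0, 0} (EtShriek.restrAlong q) :=
    (EtShriek.extZeroAdj q).rightAdjoint_preservesLimits
  PreservesKernel.iso (EtShriek.restrAlong q) (EtCoh.powMap X n) ≪≫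
    kernel.mapIso _ _ (restrGmIso q) (restrGmIso q) (by
      rw [EtCoh.powMap, EtCoh.powMap, Functor.map_nsmul, CategoryTheory.Functor.map_id]
      exact (Preadditive.nsmul_comp _ _ _).trans
        ((congrArg _ ((Category.id_comp _).trans (Category.comp_id _).symm)).trans
          (Preadditive.comp_nsmul _ _ _).symm))

theorem nonempty_pull_tate_iso (n : ℕ) (hn : 0 < n) (hu : IsUnit (n : Γ(X, ⊤))) (r : Γ(W, ⊤))
    (hr : (Polynomial.cyclotomic n Γ(W, ⊤)).IsRoot r) (c : ℕ) :
    Nonempty ((EtCoh.pull q).obj (EtDual.tate X n c) ≅ EtCoh.const W (ZMod n)) := by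
  obtain ⟨ζ, hζ⟩ := isCycGen_mu (S := W) hn (by simpa using hu.map q.appTop.hom) r hr
  obtain ⟨e₀⟩ := nonempty_const_iso hζ
  obtain ⟨e₁⟩ := nonempty_tensor_iso hζ (EtCoh.mu W n) (fun V s => muVal_injective V (by
    rw [muVal_nsmul, muVal_pow, muVal_zero]))
  induction c with
  | zero => exact ⟨EtCore.pullConst q (ZMod n)⟩
  | succ c ih =>
    obtain ⟨e⟩ := ih
    exact ⟨(GrothLib.ExtZero.restrIsoPull q).symm.app _ ≪≫
      restrTensorIso q (EtDual.tate X n c) (EtCoh.mu X n) ≪≫
      tensorAbIso ((GrothLib.ExtZero.restrIsoPull q).app _ ≪≫ e ≪≫ e₀) (restrMuIso q n) ≪≫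
      e₁.symm ≪≫ e₀.symm⟩

end GrothLib.EtTate19
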