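import Groth.Agent.Lib.EtTate19.Local

/-!
# Etale localisation of Tate twists
-/

set_option backward.isDefEq.respectTransparency false
set_option backward.isDefEq.respectTransparency.types false

universe u

open CategoryTheory CategoryTheory.Limits AlgebraicGeometry

namespace GrothLib.EtTate19

variable {X W : Scheme.{u}}

/-- The inverse image of a Tate twist along an etale morphism is the Tate twist. -/
theorem nonempty_pull_tate_iso_tate (q : W ⟶ X) [Etale q] [EtShriek.JCont q] (n c : ℕ) :
    Nonempty ((EtCoh.pull q).obj (EtDual.tate X n c) ≅ EtDual.tate W n c) := by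
  induction c with
  | zero => exact ⟨EtCore.pullConst q (ZMod n)⟩
  | succ c ih =>
    obtain ⟨e⟩ := ih
    exact ⟨(GrothLib.ExtZero.restrIsoPull q).symm.app _ ≪≫
      restrTensorIso q (EtDual.tate X n c) (EtCoh.mu X n) ≪≫
      tensorAbIso ((GrothLib.ExtZero.restrIsoPull q).app _ ≪≫ e) (restrMuIso q n)⟩

end GrothLib.EtTate19
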