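import Groth.Agent.Lib.EtTate19.Local
import Groth.Agent.Lib.EtSupp19.Restr

/-!
# Vanishing of local cohomology of Tate twists
-/

set_option backward.isDefEq.respectTransparency false
set_option backward.isDefEq.respectTransparency.types false

universe u

open CategoryTheory CategoryTheory.Limits AlgebraicGeometry

namespace GrothLib.EtTate19

open GrothLib.EtSite

variable {X U : Scheme.{u}}

/-- Local cohomology of the Tate twists vanishes where that of `ℤ/n` vanishes. -/
theorem isZero_locCoh_tate (j : U ⟶ X) [IsOpenImmersion j] (n : ℕ) (hu : IsUnit (n : Γ(X, ⊤))) (p c : ℕ)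
    (h : IsZero ((EtDual.locCoh j p).obj (EtCoh.const X (ZMod n)))) :
    IsZero ((EtDual.locCoh j p).obj (EtDual.tate X n c)) := by
  refine isZero_of_stalks _ fun Ω _ _ ξ => ?_
  have hn : 0 < n := by
    refine Nat.pos_of_ne_zero fun h0 => ?_
    subst h0
    have : Nontrivial Γ(X, ⊤) := RingHom.domain_nontrivial (X.Γevaluation (ξ.base default)).hom
    exact not_isUnit_zero (M₀ := Γ(X, ⊤)) (by rwa [Nat.cast_zero] at hu)
  obtain ⟨W, w, r, hw, hr⟩ := exists_etale_cyclotomic_root hn hu (ξ.base default)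
  let q : W.left ⟶ X := W.hom
  have : Etale q := W.prop
  have := GrothLib.Constructible.jcont q
  let j' : pullback j q ⟶ W.left := pullback.snd j q
  have hr' : Set.range j'.base = q.base ⁻¹' Set.range j.base := Scheme.Pullback.range_snd j q
  obtain ⟨e⟩ := nonempty_pull_tate_iso q n hn hu r hr c
  obtain ⟨e₁⟩ := GrothLib.EtSupp19.nonempty_pull_locCoh_iso j q j' hr' p (EtCoh.const X (ZMod n))
  obtain ⟨e₂⟩ := GrothLib.EtSupp19.nonempty_pull_locCoh_iso j q j' hr' p (EtDual.tate X n c)
  have hz : IsZero ((EtCoh.pull q).obj ((EtDual.locCoh j p).obj (EtDual.tate X n c))) :=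
    (((EtCoh.pull q).map_isZero h).of_iso
      (((EtDual.locCoh j' p).mapIso (EtCore.pullConst q (ZMod n))).symm ≪≫ e₁.symm)).of_iso
      (e₂ ≪≫ (EtDual.locCoh j' p).mapIso e)
  obtain ⟨t, -⟩ := exists_fib ξ (U := W) w hw
  have ht : t.left ≫ q = ξ := Over.w t
  have := ((EtCoh.stalk t.left).map_isZero hz).of_iso ((pullStalkIso t.left q).app _).symm
  rwa [ht] at this

end GrothLib.EtTate19
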